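import Groth.Agent.S0289
import Groth.Prelude.Def_FSch4

/-!
Etale covers of a system of thickenings are determined by their smallest level.
-/

set_option autoImplicit false
set_option linter.style.haveILetI false
universe u

open AlgebraicGeometry CategoryTheory CategoryTheory.Limits

namespace Groth.Agent.H7EtCov

variable {X Y : Scheme.{u}} (i : X ⟶ Y) [IsClosedImmersion i] [Surjective i]

theorem restrict_isEquivalence : (FEt.restrict i).IsEquivalence := by
  haveI : IsIntegralHom i := inferInstance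
  haveI : UniversallyInjective i := inferInstance
  exact S0289.result i

omit [IsClosedImmersion i] [Surjective i] in
theorem restrict_map_left_fst {P Q : FEt.Cat Y} (h : P ⟶ Q) :
    ((FEt.restrict i).map h).left ≫ pullback.fst Q.hom i = pullback.fst P.hom i ≫ h.left :=
  pullback.lift_fst _ _ _

omit [IsClosedImmersion i] [Surjective i] in
theorem restrict_map_left_snd {P Q : FEt.Cat Y} (h : P ⟶ Q) :
    ((FEt.restrict i).map h).left ≫ pullback.snd Q.hom i = pullback.snd P.hom i :=
  pullback.lift_snd _ _ _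

/-- Two morphisms of finite etale covers agreeing over a thickening are equal. -/
theorem hom_ext {P Q : FEt.Cat Y} {P₀ : Scheme.{u}} {p₀ : P₀ ⟶ X} {j : P₀ ⟶ P.left}
    (hP : IsPullback j p₀ P.hom i) (h h' : P ⟶ Q) (e : j ≫ h.left = j ≫ h'.left) : h = h' := by
  haveI := restrict_isEquivalence i
  refine (FEt.restrict i).map_injective ?_
  ext
  refine pullback.hom_ext ?_ ?_
  · refine (restrict_map_left_fst i h).trans (Eq.trans ?_ (restrict_map_left_fst i h').symm)
    refine (cancel_epi hP.isoPullback.hom).1 ?_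
    simpa only [← Category.assoc, IsPullback.isoPullback_hom_fst] using e
  · exact (restrict_map_left_snd i h).trans (restrict_map_left_snd i h').symm

/-- A morphism given over a thickening extends. -/
theorem exists_hom {P Q : FEt.Cat Y} {P₀ : Scheme.{u}} {p₀ : P₀ ⟶ X} {j : P₀ ⟶ P.left}
    (hP : IsPullback j p₀ P.hom i) (g : P₀ ⟶ Q.left) (hg : g ≫ Q.hom = p₀ ≫ i) :
    ∃ h : P ⟶ Q, j ≫ h.left = g := by
  haveI := restrict_isEquivalence i
  let gR : (FEt.restrict i).obj P ⟶ (FEt.restrict i).obj Q :=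
    MorphismProperty.Over.homMk (pullback.lift (hP.isoPullback.inv ≫ g) (pullback.snd _ _) (by
      exact (Category.assoc _ _ _).trans ((congrArg (hP.isoPullback.inv ≫ ·) hg).trans
        ((Category.assoc _ _ _).symm.trans (congrArg (· ≫ i) hP.isoPullback_inv_snd)))))
      (pullback.lift_snd _ _ _)
  refine ⟨(FEt.restrict i).preimage gR, ?_⟩
  have h1 : gR.left ≫ pullback.fst Q.hom i = hP.isoPullback.inv ≫ g := pullback.lift_fst _ _ _
  have h2 := restrict_map_left_fst i ((FEt.restrict i).preimage gR)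
  rw [(FEt.restrict i).map_preimage gR] at h2
  have h3 : hP.isoPullback.inv ≫ g = pullback.fst P.hom i ≫ ((FEt.restrict i).preimage gR).left :=
    h1.symm.trans h2
  rw [← hP.isoPullback.hom_inv_id_assoc g, h3, IsPullback.isoPullback_hom_fst_assoc]

/-- A cover of a thickened scheme comes from a cover of the thickening. -/
theorem exists_cover (P₀ : FEt.Cat X) :
    ∃ (P : FEt.Cat Y) (j : P₀.left ⟶ P.left), IsPullback j P₀.hom P.hom i := by
  haveI := restrict_isEquivalence i
  let P := (FEt.restrict i).objPreimage P₀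
  let e : (FEt.restrict i).obj P ≅ P₀ := (FEt.restrict i).objObjPreimageIso P₀
  let e' : pullback P.hom i ≅ P₀.left :=
    (MorphismProperty.Over.forget FEt.prop.{u} ⊤ X ⋙ Over.forget X).mapIso e
  refine ⟨P, e'.inv ≫ pullback.fst _ _, (IsPullback.of_hasPullback P.hom i).of_iso e' (Iso.refl _)
    (Iso.refl _) (Iso.refl _) ?_ ?_ ?_ ?_⟩
  · simp
  · exact (Category.comp_id _).trans (MorphismProperty.Over.w e.hom).symm
  · simp
  · simp

end Groth.Agent.H7EtCov

namespace Groth.Agent.H7EtCov

variable {𝔛 : FSch.Sys.{u}}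

/-- The member of an etale cover at a level, as a finite etale cover. -/
noncomputable abbrev lev (R : FSch.EtCov 𝔛) (n : ℕ) : FEt.Cat (𝔛.X n) := (FSch.EtCov.level 𝔛 n).obj R

theorem level_faithful (h𝔛 : 𝔛.IsFormal) : (FSch.EtCov.level 𝔛 0).Faithful where
  map_injective {R R'} φ ψ e := by
    have key : ∀ n, (FSch.EtCov.level 𝔛 n).map φ = (FSch.EtCov.level 𝔛 n).map ψ := by
      intro n
      induction n with
      | zero => exact e
      | succ n ih =>
        haveI := (h𝔛 n).1
        haveI : Surjective (𝔛.ι n) := ⟨(h𝔛 n).2⟩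
        refine hom_ext (𝔛.ι n) (R.property.1 n) _ _ ?_
        have h1 := congrArg (fun χ => χ.left) ih
        exact ((φ.hom.left : FSch.Hom _ _).comm n).symm.trans
          ((congrArg (· ≫ R'.obj.left.ι n) h1).trans ((ψ.hom.left : FSch.Hom _ _).comm n))
    refine ObjectProperty.hom_ext _ (Over.OverMorphism.ext (FSch.Hom.ext (funext fun n => ?_)))
    exact congrArg (fun χ => χ.left) (key n)

theorem level_full (h𝔛 : 𝔛.IsFormal) : (FSch.EtCov.level 𝔛 0).Full where
  map_surjective {R R'} g₀ := by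
    have hstep : ∀ (n : ℕ) (g : lev R n ⟶ lev R' n), ∃ g' : lev R (n + 1) ⟶ lev R' (n + 1),
        R.obj.left.ι n ≫ g'.left = g.left ≫ R'.obj.left.ι n := by
      intro n g
      haveI := (h𝔛 n).1
      haveI : Surjective (𝔛.ι n) := ⟨(h𝔛 n).2⟩
      refine exists_hom (𝔛.ι n) (Q := lev R' (n + 1)) (R.property.1 n) (g.left ≫ R'.obj.left.ι n) ?_
      exact (Category.assoc _ _ _).trans ((congrArg (g.left ≫ ·) ((R'.obj.hom : FSch.Hom _ _).comm n).symm).trans
        ((Category.assoc _ _ _).symm.trans (congrArg (· ≫ 𝔛.ι n) (MorphismProperty.Over.w g))))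
    choose next hnext using hstep
    let g : ∀ n, lev R n ⟶ lev R' n := fun n => Nat.rec g₀ (fun k gk => next k gk) n
    let φ : R.obj.left ⟶ R'.obj.left := ⟨fun n => (g n).left, fun n => (hnext n (g n)).symm⟩
    refine ⟨ObjectProperty.homMk (Over.homMk φ (FSch.Hom.ext (funext fun n => MorphismProperty.Over.w (g n)))), ?_⟩
    ext
    rfl

theorem level_essSurj (h𝔛 : 𝔛.IsFormal) : (FSch.EtCov.level 𝔛 0).EssSurj where
  mem_essImage P₀ := by
    have hstep : ∀ (n : ℕ) (P : FEt.Cat (𝔛.X n)), ∃ (P' : FEt.Cat (𝔛.X (n + 1))) (j : P.left ⟶ P'.left),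
        IsPullback j P.hom P'.hom (𝔛.ι n) := by
      intro n P
      haveI := (h𝔛 n).1
      haveI : Surjective (𝔛.ι n) := ⟨(h𝔛 n).2⟩
      exact exists_cover (𝔛.ι n) P
    choose next j hj using hstep
    let P : ∀ n, FEt.Cat (𝔛.X n) := fun n => Nat.rec P₀ (fun k Pk => next k Pk) n
    let Rs : FSch.Sys.{u} := ⟨fun n => (P n).left, fun n => j n (P n)⟩
    let r : Rs ⟶ 𝔛 := ⟨fun n => (P n).hom, fun n => (hj n (P n)).w.symm⟩
    exact ⟨⟨Over.mk r, fun n => hj n (P n), fun n => ⟨(P n).prop.1, (P n).prop.2⟩⟩, ⟨Iso.refl _⟩⟩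

theorem level_isEquivalence (h𝔛 : 𝔛.IsFormal) : (FSch.EtCov.level 𝔛 0).IsEquivalence :=
  haveI := level_faithful h𝔛
  haveI := level_full h𝔛
  haveI := level_essSurj h𝔛
  { }

end Groth.Agent.H7EtCov
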